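import Groth.Agent.GrLib8.RegList
import Groth.Agent.GrLib8.PolyChar
import Groth.Agent.GrLib8.GamTransfer
import Groth.Agent.LinType.Basic

/-!
# Standard graded Cohen–Macaulay rings over an Artinian ring with `a = -dim`
-/

set_option autoImplicit false
set_option linter.unusedSectionVars false
set_option linter.style.haveILetI false
set_option maxHeartbeats 800000

universe u

open DirectSum RingTheory.Sequence
open scoped Pointwise

namespace Groth.Agent.H1PolyArt

open GrLib8

/-- Avoidance by an infinite family of scalars with invertible differences. -/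
theorem exists_avoid {R : Type u} [CommRing R] (V : AddSubgroup R) (C : Set R) (hC : C.Infinite)
    (hCV : ∀ c ∈ C, ∀ v ∈ V, c * v ∈ V) (hunit : ∀ c ∈ C, ∀ c' ∈ C, c ≠ c' → IsUnit (c - c'))
    (s : Finset (Ideal R)) : (∀ P ∈ s, ∃ v ∈ V, v ∉ P) → ∃ x ∈ V, ∀ P ∈ s, x ∉ P := by
  classical
  induction s using Finset.induction_on with
  | empty => exact fun _ => ⟨0, V.zero_mem, by simp⟩
  | insert P s hP ih =>
    intro h
    obtain ⟨a, ha, has⟩ := ih fun Q hQ => h Q (Finset.mem_insert_of_mem hQ)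
    by_cases haP : a ∈ P
    swap
    · refine ⟨a, ha, fun Q hQ => ?_⟩
      rcases Finset.mem_insert.1 hQ with rfl | hQ
      · exact haP
      · exact has Q hQ
    obtain ⟨b, hb, hbP⟩ := h P (Finset.mem_insert_self P s)
    have hfin : ({c ∈ C | ∃ Q ∈ s, c * a + b ∈ Q}).Finite := by
      refine Set.Finite.subset (Set.Finite.biUnion s.finite_toSet (t := fun Q => {c ∈ C | c * a + b ∈ Q}) fun Q hQ => ?_)
        fun c ⟨hc, Q, hQ, hcQ⟩ => Set.mem_biUnion hQ ⟨hc, hcQ⟩
      refine Set.Subsingleton.finite fun c hc c' hc' => by_contra fun hne => has Q hQ ?_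
      have h1 : (c - c') * a ∈ Q := by
        have := Q.sub_mem hc.2 hc'.2
        rwa [add_sub_add_right_eq_sub, ← sub_mul] at this
      exact (Ideal.unit_mul_mem_iff_mem Q (hunit c hc.1 c' hc'.1 hne)).1 h1
    obtain ⟨c, hc, hcs⟩ := (hC.diff hfin).nonempty
    refine ⟨c * a + b, V.add_mem (hCV c hc a ha) hb, fun Q hQ hmem => ?_⟩
    rcases Finset.mem_insert.1 hQ with rfl | hQ
    · exact hbP ((Ideal.add_mem_iff_right _ (Ideal.mul_mem_left _ c haP)).1 hmem)
    · exact hcs ⟨hc, Q, hQ, hmem⟩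

variable {R : Type u} [CommRing R] [IsNoetherianRing R] {𝒜 : ℤ → AddSubgroup R} [GradedRing 𝒜]
  {m : HomogeneousIdeal 𝒜} (hpos : ∀ g : ℤ, g < 0 → 𝒜 g = ⊥) (hm : GrLC.IsStarLocal 𝒜 m)

include hpos in
theorem exists_deg0_rep (h1 : (GrSyz.irrel 𝒜).toIdeal ≤ m.toIdeal) (y : R) :
    ∃ c ∈ 𝒜 0, Ideal.Quotient.mk m.toIdeal c = Ideal.Quotient.mk m.toIdeal y := by
  classical
  refine ⟨decompose 𝒜 y 0, SetLike.coe_mem _, ?_⟩
  rw [eq_comm, Ideal.Quotient.eq]
  conv => arg 2; arg 1; rw [← sum_support_decompose 𝒜 y]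
  by_cases h0 : (0 : ℤ) ∈ (decompose 𝒜 y).support
  · rw [← Finset.add_sum_erase _ _ h0, add_sub_cancel_left]
    refine Ideal.sum_mem _ fun g hg => ?_
    obtain ⟨hg0, -⟩ := Finset.mem_erase.1 hg
    rcases lt_trichotomy g 0 with hneg | rfl | hp
    · rw [nonneg_of_bot hpos g hneg _ (SetLike.coe_mem _)]; exact zero_mem _
    · exact absurd rfl hg0
    · exact h1 (mem_irrel_of_pos 𝒜 hp (SetLike.coe_mem _))
  · rw [DFinsupp.notMem_support_iff.1 h0]
    simp only [ZeroMemClass.coe_zero, sub_zero]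
    refine Ideal.sum_mem _ fun g hg => ?_
    rcases lt_trichotomy g 0 with hneg | rfl | hp
    · rw [nonneg_of_bot hpos g hneg _ (SetLike.coe_mem _)]; exact zero_mem _
    · exact absurd hg h0
    · exact h1 (mem_irrel_of_pos 𝒜 hp (SetLike.coe_mem _))

include hm in
theorem isUnit_of_notMem {d : R} (hd : d ∈ 𝒜 0) (hdm : d ∉ m.toIdeal) : IsUnit d := by
  by_contra hu
  have hh : (Ideal.span {d}).IsHomogeneous 𝒜 := Ideal.homogeneous_span 𝒜 {d} (by
    rintro x rfl; exact ⟨0, hd⟩)
  have hle := le_of_isStarLocal hm (J := ⟨Ideal.span {d}, hh⟩) fun h => hu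
    (Ideal.span_singleton_eq_top.1 (congrArg HomogeneousIdeal.toIdeal h))
  exact hdm (hle (Ideal.mem_span_singleton_self d))

include hpos hm in
/-- A regular element of degree one. -/
theorem exists_regular_one (h1 : (GrSyz.irrel 𝒜).toIdeal ≤ m.toIdeal)
    (hstd : (GrSyz.irrel 𝒜).toIdeal = Ideal.span (𝒜 1 : Set R)) (hinf : Infinite (R ⧸ m.toIdeal))
    {M : Type u} [AddCommGroup M] [Module R M] [Module.Finite R M]
    (hM : GrLC.gam (GrSyz.irrel 𝒜).toIdeal M = ⊥) : ∃ x ∈ 𝒜 1, IsSMulRegular M x := by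
  classical
  have hfin := associatedPrimes.finite R M
  have hrepex : ∀ q : R ⧸ m.toIdeal, ∃ c : R, c ∈ 𝒜 0 ∧ Ideal.Quotient.mk m.toIdeal c = q := by
    intro q
    obtain ⟨y, hy⟩ := Ideal.Quotient.mk_surjective q
    obtain ⟨c, hc, hcy⟩ := exists_deg0_rep hpos h1 y
    exact ⟨c, hc, hcy.trans hy⟩
  choose rep hrep0 hrep using hrepex
  have hinj : Function.Injective rep := fun a b h => by rw [← hrep a, h, hrep b]
  obtain ⟨x, hx, hxs⟩ := exists_avoid (𝒜 1) (Set.range rep) (Set.infinite_range_of_injective hinj)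
    (by
      rintro _ ⟨q, rfl⟩ v hv
      have := SetLike.mul_mem_graded (A := 𝒜) (hrep0 q) hv
      rwa [zero_add] at this)
    (by
      rintro _ ⟨a, rfl⟩ _ ⟨b, rfl⟩ hne
      refine isUnit_of_notMem hm (sub_mem (hrep0 a) (hrep0 b)) fun hmem => hne ?_
      rw [← Ideal.Quotient.eq, hrep, hrep] at hmem
      rw [hmem]) hfin.toFinset (by
      intro P hP
      by_contra hcon
      push Not at hcon
      obtain ⟨hPp, z, hz⟩ := Alg6.mem_ass_iff.1 (hfin.mem_toFinset.1 hP)
      have hle : (GrSyz.irrel 𝒜).toIdeal ≤ P := hstd ▸ Ideal.span_le.2 hcon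
      have hz0 : z = 0 := by
        rw [← Submodule.mem_bot R, ← hM]
        exact ⟨1, fun r hr => (hz r).1 (hle (by rwa [pow_one] at hr))⟩
      exact hPp.ne_top ((Ideal.eq_top_iff_one P).2 ((hz 1).2 (by rw [hz0, smul_zero]))))
  exact ⟨x, hx, isSMulRegular_of_forall_notMem fun P hP => hxs P (hfin.mem_toFinset.2 hP)⟩

include hpos hm in
/-- A regular sequence of linear forms with torsion quotient. -/
theorem exists_regular_linear (h1 : (GrSyz.irrel 𝒜).toIdeal ≤ m.toIdeal) {k₀ : ℕ}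
    (hk : m.toIdeal ^ k₀ ≤ (GrSyz.irrel 𝒜).toIdeal)
    (hstd : (GrSyz.irrel 𝒜).toIdeal = Ideal.span (𝒜 1 : Set R)) (hinf : Infinite (R ⧸ m.toIdeal)) :
    ∀ (D : ℕ) (X : GrLC.GMod.{u} 𝒜) [Module.Finite R X.carrier],
    (∀ i < D, ∀ g, HVan (GrSyz.irrel 𝒜) X i g) → Module.supportDim R X.carrier ≤ (D : ℕ) →
    ∃ l : List R, l.length = D ∧ (∀ p ∈ l, p ∈ 𝒜 1) ∧
      IsWeaklyRegular X.carrier l ∧ ∀ z : X.carrier, ∃ k : ℕ, ∀ r ∈ (GrSyz.irrel 𝒜).toIdeal ^ k,
        r • z ∈ Ideal.ofList l • (⊤ : Submodule R X.carrier)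
  | 0 => fun X _ _ hd => by
    refine ⟨[], rfl, by simp, IsWeaklyRegular.nil R _, fun z => ?_⟩
    have hz := mem_gam_of_supportDim hpos hm X (hd.trans (by simp)) z
    rw [gam_eq_of_pow_le h1 hk] at hz
    obtain ⟨k, hk'⟩ := hz
    exact ⟨k, fun r hr => by rw [hk' r hr]; exact zero_mem _⟩
  | D + 1 => fun X _ hX hd => by
    classical
    have hgam : GrLC.gam (GrSyz.irrel 𝒜).toIdeal X.carrier = ⊥ := by
      rw [Submodule.eq_bot_iff]
      intro z hz
      rw [← sum_support_decompose X.gr z]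
      refine Finset.sum_eq_zero fun g _ => ?_
      obtain ⟨e, he⟩ := exists_H0_equiv (starRes X.gr) (GrSyz.irrel 𝒜)
      have hzg : (decompose X.gr z g : X.carrier) ∈ GrLC.gam (GrSyz.irrel 𝒜).toIdeal X.carrier :=
        isHomogeneous_gam X.gr (GrSyz.irrel 𝒜) g hz
      have h0 := (Hcomp_eq_bot_iff _ (GrSyz.irrel 𝒜) 0 g).1 (hX 0 (by omega) g (starRes X.gr)) _
        ((he g ⟨_, hzg⟩).1 (SetLike.coe_mem _))
      exact congrArg Subtype.val (e.map_eq_zero_iff.1 h0)
    obtain ⟨x, hx, hreg⟩ := exists_regular_one hpos hm h1 hstd hinf hgam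
    obtain ⟨Y, π, _, hμ, hπg, hinj, hπ, hex, -⟩ := exists_regular_seq hx hreg
    have hker : LinearMap.ker π = x • (⊤ : Submodule R X.carrier) := by
      rw [LinearMap.exact_iff.1 hex]
      refine Submodule.ext fun z => ⟨?_, ?_⟩
      · rintro ⟨w, rfl⟩; exact Submodule.smul_mem_pointwise_smul w x ⊤ Submodule.mem_top
      · intro hz
        obtain ⟨w, -, rfl⟩ := (Submodule.mem_smul_pointwise_iff_exists z x ⊤).1 hz
        exact ⟨w, rfl⟩
    let eY : QuotSMulTop x X.carrier ≃ₗ[R] Y.carrier :=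
      (Submodule.quotEquivOfEq _ _ hker.symm).trans (π.quotKerEquivOfSurjective hπ)
    have hdY : Module.supportDim R Y.carrier ≤ (D : ℕ) := by
      rw [← Module.supportDim_eq_of_equiv eY]
      have h1 := (Module.supportDim_quotSMulTop_succ_le_of_notMem_minimalPrimes (M := X.carrier) (x := x)
        fun p hp => hreg.notMem_of_mem_minimalPrimes hp).trans hd
      cases h : Module.supportDim R (QuotSMulTop x X.carrier) with
      | bot => exact bot_le
      | coe v =>
        rw [h] at h1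
        cases v with
        | top => exact absurd h1 (by rw [← WithBot.coe_one, ← WithBot.coe_add, top_add]; exact not_le.2 (WithBot.coe_lt_coe.2 (ENat.natCast_lt_top _)))
        | coe j =>
          have h2 : j + 1 ≤ D + 1 := by exact_mod_cast h1
          exact_mod_cast (show j ≤ D by omega)
    obtain ⟨l, hlen, hl, hlreg, hltors⟩ := exists_regular_linear h1 hk hstd hinf D Y
      (fun i hi g => hVan_right hμ hπg hinj hπ hex (hX i (by omega) g) (hX (i + 1) (by omega) _)) hdY
    have hlist : Ideal.ofList (x :: l) • (⊤ : Submodule R X.carrier) =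
        x • (⊤ : Submodule R X.carrier) ⊔ Ideal.ofList l • ⊤ := by
      rw [Ideal.ofList_cons, Submodule.sup_smul, Submodule.ideal_span_singleton_smul]
    have hmap : (Ideal.ofList l • (⊤ : Submodule R X.carrier)).map π = Ideal.ofList l • ⊤ := by
      rw [Submodule.map_smul'', Submodule.map_top, LinearMap.range_eq_top.2 hπ]
    refine ⟨x :: l, by simp [hlen], ?_, ?_, fun z => ?_⟩
    · intro p hp
      rcases List.mem_cons.1 hp with rfl | hp
      · exact hx
      · exact hl p hp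
    · rw [isWeaklyRegular_cons_iff]
      exact ⟨hreg, (eY.isWeaklyRegular_congr _).2 hlreg⟩
    · obtain ⟨k, hk'⟩ := hltors (π z)
      refine ⟨k, fun r hr => ?_⟩
      have h := hk' r hr
      rw [← map_smul, ← hmap, ← Submodule.mem_comap, Submodule.comap_map_eq, hker] at h
      rw [hlist, sup_comm]
      exact h

/-- A regular sequence of linear forms generating everything in positive degree presents a polynomial ring. -/
theorem exists_equiv_of_regular (hpos : ∀ g : ℤ, g < 0 → 𝒜 g = ⊥) (d : ℕ) (y : Fin d → R)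
    (hy : ∀ i, y i ∈ 𝒜 1) (hreg : IsWeaklyRegular R (List.ofFn y))
    (hgen : ∀ g : ℤ, 0 < g → ∀ r ∈ 𝒜 g, r ∈ Ideal.span (Set.range y)) :
    ∃ e : MvPolynomial (Fin d) (GrLC.deg0 𝒜) ≃ₐ[GrLC.deg0 𝒜] R, ∀ t : Fin d, e (MvPolynomial.X t) ∈ 𝒜 1 := by
  classical
  let φ : MvPolynomial (Fin d) (GrLC.deg0 𝒜) →ₐ[GrLC.deg0 𝒜] R := MvPolynomial.aeval y
  have hdeg : ∀ (n : ℕ) (P : MvPolynomial (Fin d) (GrLC.deg0 𝒜)), P.IsHomogeneous n → φ P ∈ 𝒜 (n : ℤ) := by
    intro n P hP
    rw [P.as_sum, map_sum]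
    refine AddSubgroup.sum_mem _ fun e he => ?_
    have hmon : ∀ (e : Fin d →₀ ℕ), (∏ i, y i ^ e i) ∈ 𝒜 ((∑ i, e i : ℕ) : ℤ) := fun e => by
      rw [Nat.cast_sum]
      refine SetLike.prod_mem_graded (A := 𝒜) (fun i : Fin d => ((e i : ℕ) : ℤ)) _ fun i _ => ?_
      have := SetLike.pow_mem_graded (A := 𝒜) (e i) (hy i)
      rwa [nsmul_one] at this
    have hne : ∑ i, e i = n := by
      rw [← Finsupp.degree_eq_sum]
      rw [Finsupp.degree_eq_weight_one]
      exact hP (MvPolynomial.mem_support_iff.1 he)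
    rw [MvPolynomial.aeval_monomial, Finsupp.prod_fintype _ _ (fun i => pow_zero _), ← hne]
    have := SetLike.mul_mem_graded (A := 𝒜) (P.coeff e).2 (hmon e)
    rwa [zero_add] at this
  have hJ0 : ∀ r ∈ 𝒜 0, r ∈ Ideal.span (Set.range y) → r = 0 := by
    intro r hr hrJ
    obtain ⟨a, ha⟩ := (Ideal.mem_span_range_iff_exists_fun).1 hrJ
    have h0 : (decompose 𝒜 (∑ i, a i * y i) 0 : R) = 0 := by
      rw [decompose_sum, DFinsupp.finsetSum_apply, AddSubmonoidClass.coe_finsetSum]
      refine Finset.sum_eq_zero fun i _ => ?_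
      rw [show (0 : ℤ) = (-1) + 1 from rfl, coe_decompose_mul_add_of_right_mem 𝒜 (hy i),
        nonneg_of_bot hpos (-1) (by omega) _ (SetLike.coe_mem _), zero_mul]
    rw [ha, decompose_of_mem_same 𝒜 hr] at h0
    exact h0
  have hsurjdeg : ∀ (n : ℕ) (g : ℤ), g = n → ∀ r ∈ 𝒜 g, r ∈ φ.range := by
    intro n
    induction n with
    | zero => intro g hg r hr; subst hg; exact ⟨MvPolynomial.C ⟨r, hr⟩, MvPolynomial.aeval_C y _⟩
    | succ n ih =>
      intro g hg r hr
      obtain ⟨a, ha⟩ := (Ideal.mem_span_range_iff_exists_fun).1 (hgen g (by omega) r hr)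
      have hr' : r = ∑ i, (decompose 𝒜 (a i) (n : ℤ) : R) * y i := by
        rw [← decompose_of_mem_same 𝒜 hr, ← ha, decompose_sum, DFinsupp.finsetSum_apply, AddSubmonoidClass.coe_finsetSum]
        refine Finset.sum_congr rfl fun i _ => ?_
        rw [show g = (n : ℤ) + 1 by omega, coe_decompose_mul_add_of_right_mem 𝒜 (hy i)]
      rw [hr']
      exact Subalgebra.sum_mem _ fun i _ => Subalgebra.mul_mem _ (ih n rfl _ (SetLike.coe_mem _))
        ⟨MvPolynomial.X i, MvPolynomial.aeval_X y i⟩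
  have hs : Function.Surjective φ := fun r => by
    suffices r ∈ φ.range from this
    rw [← sum_support_decompose 𝒜 r]
    refine Subalgebra.sum_mem _ fun g _ => ?_
    rcases lt_or_ge g 0 with hneg | hge
    · rw [nonneg_of_bot hpos g hneg _ (SetLike.coe_mem _)]; exact zero_mem _
    · exact hsurjdeg g.toNat g (by omega) _ (SetLike.coe_mem _)
  have hi : Function.Injective φ := by
    rw [injective_iff_map_eq_zero]
    intro P hP
    rw [← MvPolynomial.sum_homogeneousComponent P]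
    refine Finset.sum_eq_zero fun n hn => ?_
    have hhom := MvPolynomial.homogeneousComponent_isHomogeneous n P
    have h0 : φ (MvPolynomial.homogeneousComponent n P) = 0 := by
      have h : (decompose 𝒜 (φ P) (n : ℤ) : R) = φ (MvPolynomial.homogeneousComponent n P) := by
        conv_lhs => rw [← MvPolynomial.sum_homogeneousComponent P, map_sum, decompose_sum, DFinsupp.finsetSum_apply,
          AddSubmonoidClass.coe_finsetSum]
        rw [Finset.sum_eq_single n (fun j _ hj => decompose_of_mem_ne 𝒜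
          (hdeg j _ (MvPolynomial.homogeneousComponent_isHomogeneous j P)) (by exact_mod_cast hj))
          (fun h => absurd hn h), decompose_of_mem_same 𝒜 (hdeg n _ hhom)]
      rw [hP, decompose_zero] at h
      exact h.symm
    refine MvPolynomial.ext _ _ fun e => ?_
    rw [MvPolynomial.coeff_zero]
    let Q := MvPolynomial.map (GrLC.deg0 𝒜).subtype (MvPolynomial.homogeneousComponent n P)
    have hev : MvPolynomial.eval y Q = 0 := by
      rw [← h0, MvPolynomial.eval_map]
      rfl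
    have hcoef := LinType.quasiRegular y hreg (hhom.map (GrLC.deg0 𝒜).subtype)
      (show MvPolynomial.eval y Q ∈ Ideal.span (Set.range y) ^ (n + 1) by rw [hev]; exact zero_mem _) e
    rw [MvPolynomial.coeff_map] at hcoef
    exact Subtype.ext (hJ0 _ ((MvPolynomial.homogeneousComponent n P).coeff e).2 hcoef)
  exact ⟨AlgEquiv.ofBijective φ ⟨hi, hs⟩, fun t => by
    show φ (MvPolynomial.X t) ∈ 𝒜 1
    rw [MvPolynomial.aeval_X]; exact hy t⟩

end Groth.Agent.H1PolyArt
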